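import Cfsg.Agent.Lib.Spor.Cos.SuzOut.ClsChk0
import Cfsg.Agent.Lib.Spor.Cos.SuzOut.ClsChk1

/-! Data and checks for the automorphisms of a group on 1782 points. -/

set_option autoImplicit false
set_option maxRecDepth 100000
set_option maxHeartbeats 4000000

namespace Cfsg.Agent.Spor.Cos.SuzOut

theorem cls_ok : ∀ i < 4095, (chkCls) i = true := by
  refine of_blocks (size := 256) (b := 16) (by decide) (by decide) fun j hj => ?_
  interval_cases j
  · exact cls_b0
  · exact cls_b1
  · exact cls_b2
  · exact cls_b3
  · exact cls_b4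
  · exact cls_b5
  · exact cls_b6
  · exact cls_b7
  · exact cls_b8
  · exact cls_b9
  · exact cls_b10
  · exact cls_b11
  · exact cls_b12
  · exact cls_b13
  · exact cls_b14
  · exact cls_b15

end Cfsg.Agent.Spor.Cos.SuzOut
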