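import Cfsg.Agent.Lib.Spor.Cos.SuzOut.InvChk0
import Cfsg.Agent.Lib.Spor.Cos.SuzOut.InvChk1

/-! Data and checks for the automorphisms of a group on 1782 points. -/

set_option autoImplicit false
set_option maxRecDepth 100000
set_option maxHeartbeats 4000000

namespace Cfsg.Agent.Spor.Cos.SuzOut

theorem inv_ok : ∀ i < 2075, (chkClosedInv) i = true := by
  refine of_blocks (size := 256) (b := 9) (by decide) (by decide) fun j hj => ?_
  interval_cases j
  · exact inv_b0
  · exact inv_b1
  · exact inv_b2
  · exact inv_b3
  · exact inv_b4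
  · exact inv_b5
  · exact inv_b6
  · exact inv_b7
  · exact inv_b8

end Cfsg.Agent.Spor.Cos.SuzOut
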