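import Cfsg.Agent.Lib.Spor.Cos.SuzOut.Defs

/-! Data and checks for the automorphisms of a group on 1782 points. -/

set_option autoImplicit false
set_option maxRecDepth 100000
set_option maxHeartbeats 4000000

namespace Cfsg.Agent.Spor.Cos.SuzOut

theorem syl_b12 : allBlock (chkSyl) 8192 512 12 = true := by decide +kernel

theorem syl_b13 : allBlock (chkSyl) 8192 512 13 = true := by decide +kernel

theorem syl_b14 : allBlock (chkSyl) 8192 512 14 = true := by decide +kernel

end Cfsg.Agent.Spor.Cos.SuzOut
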