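import Cfsg.Agent.Lib.Spor.Cos.SuzOut.SylChk0
import Cfsg.Agent.Lib.Spor.Cos.SuzOut.SylChk1
import Cfsg.Agent.Lib.Spor.Cos.SuzOut.SylChk2
import Cfsg.Agent.Lib.Spor.Cos.SuzOut.SylChk3
import Cfsg.Agent.Lib.Spor.Cos.SuzOut.SylChk4
import Cfsg.Agent.Lib.Spor.Cos.SuzOut.SylChk5

/-! Data and checks for the automorphisms of a group on 1782 points. -/

set_option autoImplicit false
set_option maxRecDepth 100000
set_option maxHeartbeats 4000000

namespace Cfsg.Agent.Spor.Cos.SuzOut

theorem syl_ok : ∀ i < 8192, (chkSyl) i = true := by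
  refine of_blocks (size := 512) (b := 16) (by decide) (by decide) fun j hj => ?_
  interval_cases j
  · exact syl_b0
  · exact syl_b1
  · exact syl_b2
  · exact syl_b3
  · exact syl_b4
  · exact syl_b5
  · exact syl_b6
  · exact syl_b7
  · exact syl_b8
  · exact syl_b9
  · exact syl_b10
  · exact syl_b11
  · exact syl_b12
  · exact syl_b13
  · exact syl_b14
  · exact syl_b15

end Cfsg.Agent.Spor.Cos.SuzOut
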