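import Cfsg.Agent.Lib.Spor.Cos.SuzOut.Rep
import Cfsg.Agent.Lib.Spor.Cos.SuzOut.SylChk
import Cfsg.Agent.Lib.Spor.Cos.SuzOut.RowChk
import Cfsg.Agent.Lib.Spor.Cos.SuzOut.ClsChk
import Cfsg.Agent.Lib.Spor.Cos.SuzOut.InvChk

/-!
An involution centraliser in a group on 1782 points.
-/

set_option autoImplicit false
set_option maxRecDepth 100000
set_option maxHeartbeats 1000000

namespace Cfsg.Agent.Spor.Cos.SuzOut

open Cfsg.Spor Triple

theorem eq_of_same {v w : List ℕ} (h : sameW actN ptsN v w = true) : ev g v = ev g w := eq_of_sameW homA det h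

theorem ev_zero : ev g [0] = g 0 := mul_one _

theorem g_ne {s : ℕ} (hs : s < 5) : g s ≠ 1 := by
  have h : ∀ k < 5, agree actN ptsN [k] [] = false := by decide +kernel
  have := Central.ne_of_agree (g := g) homA pts_lt (v := [s]) (w := []) (by simpa [actN] using hs) (by simp) (h s hs)
  simpa [ev] using this

theorem row_parts : (∀ p < 1782, SubList.chkRow actN sylD p = true) ∧ ∀ p < 1782, SubList.chkRow actN stD p = true := by
  refine ⟨fun p hp => ?_, fun p hp => ?_⟩ <;>
    · have h := row_ok p hp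
      rw [chkRows, Bool.and_eq_true] at h
      first | exact h.1 | exact h.2

/-- The centraliser. -/
abbrev C : Subgroup Spor.Suz := Subgroup.centralizer ({g 0} : Set Spor.Suz)

theorem st_first : stG.getD 0 [] = [0] ∧ stG.length = 6 ∧ fixL.length = 54 := by decide +kernel

/-- The fixed point. -/
def ptX : Fin actN.N := ⟨fixPt, by decide⟩

theorem card_C_le : Nat.card C ≤ 3317760 := by
  have hom := SubList.hom homA row_parts.2
  have hsq : ∀ t < (stD.act 1782).n, stD.gen g t * stD.gen g t = 1 := fun t _ =>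
    pi_injective (by
      rw [map_mul, show pi (stD.gen g t) = (stD.act 1782).perm t from hom.gen t, map_one]
      exact (stD.act 1782).perm_sq t)
  have h := card_centralizer_le (A := stD.act 1782) hsq hom pts_lt (x := ptX) (zw := [0])
    (by decide +kernel) (by decide +kernel) cls_ok (L := fixL) (by decide +kernel) (stab pi ptX) fun y => mem_stab
  rw [show ev (stD.gen g) [0] = g 0 from (mul_one _).trans ((congrArg (ev g) st_first.1).trans ev_zero),
    card_stab_any, st_first.2.2] at h
  exact Nat.le_of_mul_le_mul_right (h.trans (by norm_num)) (by norm_num : 0 < 4095)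

theorem comm_le {G' : List (List ℕ)} (h : (G'.all fun w => sameW actN ptsN (w ++ [0]) ([0] ++ w)) = true) :
    val g G' ≤ C := by
  refine (Subgroup.closure_le _).2 ?_
  rintro _ ⟨w, hw, rfl⟩
  rw [SetLike.mem_coe, Subgroup.mem_centralizer_singleton_iff, ← ev_zero, ← ev_append, ← ev_append]
  exact eq_of_same (List.all_eq_true.1 h w hw)

theorem cen_comm : (c0W.all fun w => sameW actN ptsN (w ++ [0]) ([0] ++ w)) = true := by decide +kernel

theorem levC : LevR g actN pi c0W 3317760 ptsC := by
  have k4 : c4.Ok actN c4W (ptsC.getD 4 0) := ⟨by decide +kernel, by decide, by decide +kernel⟩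
  have k3 : c3.Ok actN c3W (ptsC.getD 3 0) := ⟨by decide +kernel, by decide, by decide +kernel⟩
  have k2 : c2.Ok actN c2W (ptsC.getD 2 0) := ⟨by decide +kernel, by decide, by decide +kernel⟩
  have k1 : c1.Ok actN c1W (ptsC.getD 1 0) := ⟨by decide +kernel, by decide, by decide +kernel⟩
  have k0 : c0.Ok actN c0W (ptsC.getD 0 0) := ⟨by decide +kernel, by decide, by decide +kernel⟩
  exact LevR.step homA (LevR.step homA (LevR.step homA (LevR.step homA (LevR.step homA LevR.nil k4
      (by decide +kernel) (by decide +kernel) (by decide +kernel)) k3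
      (by decide +kernel) (by decide +kernel) (by decide +kernel)) k2
      (by decide +kernel) (by decide +kernel) (by decide +kernel)) k1
      (by decide +kernel) (by decide +kernel) (by decide +kernel)) k0
      (by decide +kernel) (by decide +kernel) (by decide +kernel)

theorem C_facts : val g c0W = C ∧ Nat.card C = 3317760 := by
  have h1 : Nat.card C ≤ Nat.card (val g c0W) := card_C_le.trans levC.le
  have e := Subgroup.eq_of_le_of_card_ge (comm_le cen_comm) h1
  exact ⟨e, le_antisymm card_C_le (e ▸ levC.le)⟩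

theorem syl_parts : (∀ i < sylD.m, SubList.chkElem 1782 ptsN sylD i = true) ∧
    (∀ i < sylD.m, SubList.chkCentral actN ptsN sylD i = true) ∧
    ∀ i < sylD.m, SubList.chkInvol actN ptsN sylD invW sylInv sylConj 80 tW i = true := by
  refine ⟨fun i hi => ?_, fun i hi => ?_, fun i hi => ?_⟩ <;>
    · have h := syl_ok i hi
      simp only [chkSyl, Bool.and_eq_true] at h
      first | exact h.1.1 | exact h.1.2 | exact h.2

theorem fact_two {k : ℕ} (hk : ¬ 2 ∣ k) : (2 ^ 13 * k).factorization 2 = 13 := by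
  rw [Nat.factorization_mul (by norm_num) (fun e => hk (by rw [e]; exact dvd_zero 2)), Finsupp.add_apply,
    Nat.Prime.factorization_pow Nat.prime_two, Finsupp.single_eq_same, Nat.factorization_eq_zero_of_not_dvd hk]

theorem syl_one : sylD.one < sylD.m ∧ agree (sylD.act 1782) ptsN (sylD.word sylD.one) [] = true := by decide +kernel

theorem syl_comm : (sylG.all fun w => sameW actN ptsN (w ++ [0]) ([0] ++ w)) = true := by decide +kernel

theorem cls (φ : MulAut Spor.Suz) : IsConj (g 0) (φ (g 0)) :=
  SubList.cls homA row_parts.1 pts_lt det syl_parts.1 syl_one.1 syl_one.2 syl_parts.2.1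
    (by rw [card_H, show (448345497600 : ℕ) = 2 ^ 13 * 54729675 by norm_num, fact_two (by norm_num)]; rfl)
    (fun u hu => (Subgroup.mem_centralizer_singleton_iff.1 (comm_le (G' := sylG) syl_comm hu)).symm)
    (g_sq 0) (g_ne (by norm_num)) φ

theorem t_fix : (tW.all fun s => Nat.blt s 5) = true ∧ fixT.length = 42 ∧
    (∀ p < 1782, (!(Nat.beq (actN.go tW p) p) || fixT.any (Nat.beq p)) = true) ∧ fixL.Nodup ∧
    ∀ p ∈ fixL, p < 1782 ∧ actN.go [0] p = p := by
  decide +kernel

theorem not_conj_t : ¬ IsConj (g 0) (ev g tW) := by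
  intro h
  obtain ⟨c, hc⟩ := isConj_iff.1 h
  have hl : ∀ s ∈ tW, s < actN.n := fun s hs => Nat.le_of_ble_eq_true (List.all_eq_true.1 t_fix.1 s hs)
  let f : ℕ → ℕ := fun p => if hp : p < 1782 then (pi c ⟨p, hp⟩ : ℕ) else 0
  have hmem : ∀ p ∈ fixL, f p ∈ fixT.toFinset := by
    intro p hp
    obtain ⟨hlt, hz⟩ := t_fix.2.2.2.2 p hp
    have hz' : pi (g 0) ⟨p, hlt⟩ = ⟨p, hlt⟩ := Fin.ext (by
      rw [← ev_zero, homA.apply_ev [0] (show ∀ s ∈ [0], s < actN.n by decide)]
      exact hz)
    have ht : pi (ev g tW) (pi c ⟨p, hlt⟩) = pi c ⟨p, hlt⟩ := by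
      rw [← hc, map_mul, map_mul, map_inv, Equiv.Perm.mul_apply, Equiv.Perm.mul_apply,
        Equiv.Perm.inv_eq_iff_eq.2 rfl, hz']
    have h2 := t_fix.2.2.1 _ (pi c ⟨p, hlt⟩).2
    rw [← homA.apply_ev tW hl, ht, Nat.beq_refl, Bool.not_true, Bool.false_or, List.any_eq_true] at h2
    obtain ⟨q, hq, e⟩ := h2
    show (if hp : p < 1782 then (pi c ⟨p, hp⟩ : ℕ) else 0) ∈ _
    rw [dif_pos hlt, List.mem_toFinset, Nat.eq_of_beq_eq_true e]
    exact hq
  have h3 := Finset.card_le_card_of_injOn f (s := fixL.toFinset) (t := fixT.toFinset)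
    (fun p hp => hmem p (List.mem_toFinset.1 hp)) (by
      intro p hp q hq e
      have hp' := (t_fix.2.2.2.2 p (List.mem_toFinset.1 hp)).1
      have hq' := (t_fix.2.2.2.2 q (List.mem_toFinset.1 hq)).1
      simp only [f, dif_pos hp', dif_pos hq'] at e
      exact congrArg Fin.val ((pi c).injective (Fin.ext e)))
  rw [List.toFinset_card_of_nodup t_fix.2.2.2.1, st_first.2.2] at h3
  have := List.toFinset_card_le fixT
  have := t_fix.2.1
  omega

theorem inv_len : invW.length = 415 ∧ c0W.length * 415 = 2075 := by decide +kernel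

/-- The listed involutions are permuted by the centraliser. -/
theorem inv_closed {c : Spor.Suz} (hc : c ∈ C) :
    ∀ j < invW.length, ∃ k < invW.length, c * ev g (invW.getD j []) * c⁻¹ = ev g (invW.getD k []) := by
  rw [← C_facts.1] at hc
  replace hc : c ∈ Subgroup.closure {x | ∃ w ∈ c0W, ev g w = x} := hc
  rw [← Subgroup.mem_toSubmonoid, Subgroup.closure_toSubmonoid_of_finite] at hc
  induction hc using Submonoid.closure_induction with
  | mem x hx =>
    obtain ⟨w, hw, rfl⟩ := hx
    obtain ⟨t, ht, rfl⟩ := List.mem_iff_getElem.1 hw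
    intro j hj
    have hj' : j < 415 := inv_len.1 ▸ hj
    have h := inv_ok (t * 415 + j) (by have := inv_len.2; nlinarith)
    simp only [chkClosedInv, force_eq, Bool.and_eq_true, show (t * 415 + j) / 415 = t by omega,
      show (t * 415 + j) % 415 = j by omega] at h
    refine ⟨_, Nat.le_of_ble_eq_true h.1, ?_⟩
    have hl : ∀ s ∈ c0W.getD t [], s < 5 := fun s hs => by
      have h2 := h.2
      simp only [sameW, Bool.and_eq_true, List.all_append, List.all_eq_true] at h2
      exact Nat.le_of_ble_eq_true (h2.1.1.1 s hs)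
    rw [← eq_of_same h.2, ev_append, ev_append, ev_reverse (fun s _ => g_sq s) _ hl, ← mul_assoc,
      List.getD_eq_getElem _ _ ht]
  | one => exact fun j hj => ⟨j, hj, by group⟩
  | mul a b _ _ ha hb =>
    intro j hj
    obtain ⟨k, hk, e⟩ := hb j hj
    obtain ⟨l, hl, e'⟩ := ha k hk
    exact ⟨l, hl, by rw [← e', ← e]; group⟩

theorem invol (x : Spor.Suz) (hxz : IsConj (g 0) x) (hx : x * x = 1) (hne : x ≠ 1) (hcx : x * g 0 = g 0 * x) :
    ∃ j < invW.length, x = ev g (invW.getD j []) :=
  SubList.invol homA row_parts.1 pts_lt det g_sq syl_parts.1 syl_one.1 syl_one.2 (C := C) rfl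
    (comm_le (G' := sylG) syl_comm)
    (by rw [C_facts.2, show (3317760 : ℕ) = 2 ^ 13 * 405 by norm_num, fact_two (by norm_num)]; rfl)
    syl_parts.2.2 not_conj_t (fun c hc => inv_closed hc) x hxz hx hne hcx

end Cfsg.Agent.Spor.Cos.SuzOut
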