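import Cfsg.Agent.Lib.Spor.Cos.SubList
import Cfsg.Agent.Lib.Spor.Cos.SuzOut.ActData
import Cfsg.Agent.Lib.Spor.Cos.SuzOut.CenData
import Cfsg.Agent.Lib.Spor.Cos.SuzOut.ClsData
import Cfsg.Agent.Lib.Spor.Cos.SuzOut.SylData
import Cfsg.Agent.Lib.Spor.Cos.SuzOut.TriData

/-! Data and checks for the automorphisms of a group on 1782 points. -/

set_option autoImplicit false
set_option maxRecDepth 100000
set_option maxHeartbeats 4000000

namespace Cfsg.Agent.Spor.Cos.SuzOut

open Triple

/-- The Sylow subgroup. -/
def sylD : SubList.Data := ⟨sylG, sylT, sylU, sylK, sylStep, 8192, sylOne, 40⟩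

/-- Involutions of a point stabiliser. -/
def stD : SubList.Data := ⟨stG, stT, clsU, clsK, clsK, 4095, 0, 24⟩

/-- The checks of an element of the Sylow subgroup. -/
noncomputable def chkSyl (i : ℕ) : Bool :=
  SubList.chkElem 1782 ptsN sylD i && SubList.chkCentral actN ptsN sylD i &&
    SubList.chkInvol actN ptsN sylD invW sylInv sylConj 80 tW i

/-- The tables of both sets of involutions. -/
noncomputable def chkRows (p : ℕ) : Bool := SubList.chkRow actN sylD p && SubList.chkRow actN stD p

/-- A conjugate in the point stabiliser. -/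
noncomputable def chkCls (j : ℕ) : Bool := chkConj (stD.act 1782) ptsN fixPt [0] 24 clsU clsK 4095 j

/-- The conjugate of a listed involution is listed. -/
noncomputable def chkClosedInv (n : ℕ) : Bool :=
  (fun c : List ℕ => force (invIdx.at n) fun j => Nat.blt j invW.length &&
    sameW actN ptsN (c ++ (invW.getD (n % 415) [] ++ c.reverse)) (invW.getD j []))
    (c0W.getD (n / 415) [])

/-- The tree. -/
def treeD : Tree5.Data := ⟨nodeW, nodeD, invW, conjW, relW, edgeT⟩

/-- The check of an edge of the tree. -/
noncomputable def chkTree (e : ℕ) : Bool := Tree5.chkEdge treeD actN ptsN e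

end Cfsg.Agent.Spor.Cos.SuzOut
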