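import Cfsg.Agent.Lib.Spor.Cos.Suz.IsSimple
import Cfsg.Agent.Lib.Spor.Cos.SuzOut.ActData

/-!
Five new generators of a presented group and their action on 1782 points.
-/

set_option autoImplicit false
set_option maxRecDepth 100000
set_option maxHeartbeats 1000000

namespace Cfsg.Agent.Spor.Cos.SuzOut

open Cfsg.Spor

instance : Finite Spor.Suz := Cfsg.Agent.Spor.Cos.Suz.finite

/-- The generators. -/
noncomputable def g (s : ℕ) : Spor.Suz := ev Cfsg.Agent.Spor.Cos.Suz.g (genWords.getD s [])

/-- The table shows the words at a point. -/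
noncomputable def chkGenRow (p : ℕ) : Bool :=
  actN.chkInv p && (List.range 5).all fun s => (fun w : List ℕ =>
    (w.all fun t => Nat.blt t 7) && Nat.beq (actN.im p s) (Cfsg.Agent.Spor.Cos.Suz.actA.go w p)) (genWords.getD s [])

theorem gen_row : ∀ p < 1782, chkGenRow p = true := by
  refine of_blocks (size := 256) (b := 7) (by decide) (by decide) fun j hj => ?_
  interval_cases j <;> decide +kernel

theorem act_inv : ∀ p < 1782, actN.chkInv p = true := fun p hp => by
  have := gen_row p hp
  rw [chkGenRow, Bool.and_eq_true] at this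
  exact this.1

/-- The action. -/
noncomputable def pi : Spor.Suz →* Equiv.Perm (Fin actN.N) := Cfsg.Agent.Spor.Cos.Suz.piA

theorem homA : actN.Hom g pi := by
  refine ⟨act_inv, fun s => ?_⟩
  rcases Nat.lt_or_ge s 5 with hs | hs
  · refine Equiv.ext fun p => Fin.ext ?_
    have hp := gen_row p p.2
    simp only [chkGenRow, Bool.and_eq_true, List.all_eq_true, List.mem_range] at hp
    obtain ⟨hl, e⟩ := hp.2 s hs
    have e1 := actN.perm_apply act_inv (s := s) hs p
    rw [Nat.eq_of_beq_eq_true e] at e1
    exact (Cfsg.Agent.Spor.Cos.Suz.homA.apply_ev _ (fun t ht => Nat.le_of_ble_eq_true (hl t ht)) p).trans e1.symm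
  · have e : g s = 1 := by
      rw [g, List.getD_eq_default _ _ (show genWords.length ≤ s from hs)]
      rfl
    rw [actN.perm_out s hs]
    exact (congrArg pi e).trans (map_one pi)

theorem card_H : Nat.card Spor.Suz = 448345497600 := Cfsg.Agent.Spor.Cos.Suz.card_eq

theorem pi_injective : Function.Injective pi := (injective_iff_map_eq_one pi).2 fun y hy =>
  Cfsg.Agent.Spor.Cos.Suz.det y fun q _ => Equiv.ext_iff.1 hy q

theorem g_sq (s : ℕ) : g s * g s = 1 :=
  pi_injective (by rw [map_mul, homA.gen, actN.perm_sq, map_one])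

theorem lev1 : LevR g actN pi o1W 251596800 (ptsN.drop 1) := by
  have k4 : o4.Ok actN o4W (ptsN.getD 4 0) := ⟨by decide +kernel, by decide, by decide +kernel⟩
  have k3 : o3.Ok actN o3W (ptsN.getD 3 0) := ⟨by decide +kernel, by decide, by decide +kernel⟩
  have k2 : o2.Ok actN o2W (ptsN.getD 2 0) := ⟨by decide +kernel, by decide, by decide +kernel⟩
  have k1 : o1.Ok actN o1W (ptsN.getD 1 0) := ⟨by decide +kernel, by decide, by decide +kernel⟩
  exact LevR.step homA (LevR.step homA (LevR.step homA (LevR.step homA LevR.nil k4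
      (by decide +kernel) (by decide +kernel) (by decide +kernel)) k3
      (by decide +kernel) (by decide +kernel) (by decide +kernel)) k2
      (by decide +kernel) (by decide +kernel) (by decide +kernel)) k1
      (by decide +kernel) (by decide +kernel) (by decide +kernel)

/-- The base point. -/
def base0 : Fin actN.N := ⟨880, by decide⟩

theorem ok0 : o0.Ok actN o0W 880 := ⟨by decide +kernel, by decide, by decide +kernel⟩

theorem lev : LevR g actN pi (singles (List.range 5)) 448345497600 ptsN :=
  LevR.step homA lev1 ok0 (by decide +kernel) (by decide +kernel) (by decide +kernel)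

theorem val_top : val g (singles (List.range 5)) = ⊤ :=
  Subgroup.eq_top_of_le_card _ (card_H.trans_le lev.le)

theorem det (y : Spor.Suz) (h : ∀ q : Fin actN.N, (q : ℕ) ∈ ptsN → pi y q = q) : y = 1 :=
  lev.fix (by rw [val_top, Nat.card_congr Subgroup.topEquiv.toEquiv, card_H]) y
    (val_top ▸ Subgroup.mem_top y) h

theorem pts_lt : ∀ p ∈ ptsN, p < actN.N := by decide +kernel

theorem g_gen : Subgroup.closure {x | ∃ s < 5, g s = x} = ⊤ := by
  refine top_le_iff.1 (val_top ▸ (Subgroup.closure_le _).2 ?_)
  rintro _ ⟨w, hw, rfl⟩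
  obtain ⟨s, hs, rfl⟩ := List.mem_map.1 hw
  exact Subgroup.subset_closure ⟨s, List.mem_range.1 hs, (mul_one _).symm⟩

theorem trA (p : Fin actN.N) : ∃ y : Spor.Suz, pi y base0 = p := exists_apply_eq homA ok0 rfl p

theorem card_stab_any (x : Fin actN.N) : Nat.card (stab pi x) = 251596800 := by
  refine card_stab (fun p => ?_) (k := 251596800) card_H
  obtain ⟨a, ha⟩ := trA p
  obtain ⟨b, hb⟩ := trA x
  exact ⟨a * b⁻¹, by rw [map_mul, map_inv, Equiv.Perm.mul_apply, ← hb, Equiv.Perm.inv_def, Equiv.symm_apply_apply, ha]⟩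

theorem stab_val : val g o1W = stab pi base0 := by
  refine Subgroup.eq_of_le_of_card_ge ((Subgroup.closure_le _).2 ?_) ((card_stab_any base0).trans_le lev1.le)
  rintro _ ⟨w, hw, rfl⟩
  exact mem_stab.2 (homA.apply_ev_eq (ws := o1W) (by decide +kernel) (by decide +kernel) hw)

end Cfsg.Agent.Spor.Cos.SuzOut
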