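import Cfsg.Agent.Lib.Spor.Cos.SuzOut.Defs

/-! Data and checks for the automorphisms of a group on 1782 points. -/

set_option autoImplicit false
set_option maxRecDepth 100000
set_option maxHeartbeats 4000000

namespace Cfsg.Agent.Spor.Cos.SuzOut

theorem row_b0 : allBlock (chkRows) 1782 256 0 = true := by decide +kernel

theorem row_b1 : allBlock (chkRows) 1782 256 1 = true := by decide +kernel

theorem row_b2 : allBlock (chkRows) 1782 256 2 = true := by decide +kernel

theorem row_b3 : allBlock (chkRows) 1782 256 3 = true := by decide +kernel

theorem row_b4 : allBlock (chkRows) 1782 256 4 = true := by decide +kernel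

theorem row_b5 : allBlock (chkRows) 1782 256 5 = true := by decide +kernel

theorem row_b6 : allBlock (chkRows) 1782 256 6 = true := by decide +kernel

end Cfsg.Agent.Spor.Cos.SuzOut
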